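import Mathlib

/-!
Data for a non-split extension of `M₂₃` by the Golay cocode.
-/

set_option autoImplicit false

namespace Cfsg.Agent.Cocode

/-- the bilinear part of the loop cocycle -/
def mMask : Fin 12 → ℕ := ![256, 1024, 8, 0, 64, 128, 0, 0, 0, 2048, 0, 0]

/-- coordinates of the code words that are unit vectors off the pivots -/
def dualMask : Fin 12 → ℕ := ![2283, 2366, 2711, 3526, 871, 1741, 3481, 986, 1972, 3944, 1595, 3189]

/-- three involutions -/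
def genTab : Fin 3 → Fin 24 → Fin 24 := ![![0, 9, 7, 21, 4, 15, 6, 2, 13, 1, 19, 11, 12, 8, 14, 5, 22, 23, 18, 10, 20, 3, 16, 17], ![0, 18, 2, 17, 22, 13, 9, 7, 23, 6, 10, 11, 12, 5, 16, 21, 14, 3, 1, 19, 20, 15, 4, 8], ![0, 13, 12, 3, 18, 15, 23, 11, 8, 9, 10, 7, 2, 1, 17, 5, 16, 14, 4, 19, 20, 22, 21, 6]]

/-- their inverses -/
def genInvTab : Fin 3 → Fin 24 → Fin 24 := ![![0, 9, 7, 21, 4, 15, 6, 2, 13, 1, 19, 11, 12, 8, 14, 5, 22, 23, 18, 10, 20, 3, 16, 17], ![0, 18, 2, 17, 22, 13, 9, 7, 23, 6, 10, 11, 12, 5, 16, 21, 14, 3, 1, 19, 20, 15, 4, 8], ![0, 13, 12, 3, 18, 15, 23, 11, 8, 9, 10, 7, 2, 1, 17, 5, 16, 14, 4, 19, 20, 22, 21, 6]]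

/-- the relators -/
def relWords : List (List (Fin 3)) := [[1, 1], [1, 2, 1, 0, 1, 2, 0, 2, 0, 1, 2, 0]]

/-- the basis words at which the relators are evaluated -/
def picks : List (List (Fin 12)) := [[1, 2, 6], [3, 6, 7, 8, 10]]

/-- the changes of the cocycle under the involutions -/
def defTab : Fin 3 → Fin 12 → ℕ := ![![2110, 2904, 472, 16, 2720, 2048, 2048, 1536, 2048, 1024, 2048, 0], ![3708, 4, 992, 3888, 0, 0, 2816, 768, 1536, 3072, 0, 0], ![2160, 1304, 1408, 3120, 320, 2048, 0, 3840, 2048, 2048, 0, 0]]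

end Cfsg.Agent.Cocode
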