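import Cfsg.Agent.Leech.Code
import Cfsg.Agent.Cocode.Data

/-!
The Parker loop cocycle of the binary Golay code and quadratic lifts of code automorphisms.
-/

set_option autoImplicit false

namespace Cfsg.Agent.Cocode

open Cfsg Cfsg.Agent.Leech

abbrev Word := GolayPt → ZMod 2

theorem two0 : (2 : ZMod 2) = 0 := rfl

/-- second elementary symmetric function -/
def e2 : {n : ℕ} → (Fin n → ZMod 2) → ZMod 2
  | 0, _ => 0
  | _ + 1, x => x 0 * (∑ i, x (Fin.succ i)) + e2 fun i => x (Fin.succ i)

theorem e2_add : ∀ {n : ℕ} (x y : Fin n → ZMod 2),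
    e2 (x + y) = e2 x + e2 y + (∑ i, x i) * (∑ i, y i) + ∑ i, x i * y i
  | 0, x, y => by simp [e2]
  | n + 1, x, y => by
    have ih := e2_add (fun i => x (Fin.succ i)) fun i => y (Fin.succ i)
    simp only [e2, Pi.add_apply, Finset.sum_add_distrib, Fin.sum_univ_succ] at ih ⊢
    rw [show (fun i => x (Fin.succ i) + y (Fin.succ i)) =
      (fun i => x (Fin.succ i)) + fun i => y (Fin.succ i) from rfl, ih]
    generalize x 0 = a, y 0 = b, e2 (fun i => x (Fin.succ i)) = c, e2 (fun i => y (Fin.succ i)) = d,
      ∑ i, x (Fin.succ i) = s, ∑ i, y (Fin.succ i) = t, ∑ i, x (Fin.succ i) * y (Fin.succ i) = u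
    revert a b c d s t u
    decide

/-- the quadratic part of the cocycle -/
def sq (v : Word) (p : GolayPt) : ZMod 2 := e2 fun i => v (piv i) * row i p

/-- the coefficients of the bilinear part -/
def mC (i j : Fin 12) : ZMod 2 := if (mMask i).testBit j.val then 1 else 0

/-- the bilinear part -/
def bil (a b : Word) : ZMod 2 := ∑ i, ∑ j, mC i j * a (piv i) * b (piv j)

/-- the cocycle -/
def theta (a b : Word) : ZMod 2 := ∑ p, sq a p * b p + bil a b

/-- triple intersection parity -/
def tri (a b c : Word) : ZMod 2 := ∑ p, a p * b p * c p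

/-- quarter of the weight -/
def quart (v : Word) : ZMod 2 := ((hammingNorm v / 4 : ℕ) : ZMod 2)

theorem theta_right (a b b' : Word) : theta a (b + b') = theta a b + theta a b' := by
  simp only [theta, bil, Pi.add_apply, mul_add, Finset.sum_add_distrib]
  ring

theorem coord_sum {a : Word} (ha : a ∈ golayCode) (p : GolayPt) : ∑ i, a (piv i) * row i p = a p :=
  congrFun ((mem_iff a).1 ha) p

theorem row_idem (i : Fin 12) (p : GolayPt) : row i p * row i p = row i p := by
  generalize row i p = r
  revert r
  decide

theorem theta_left {a b c : Word} (ha : a ∈ golayCode) (hb : b ∈ golayCode) (hc : c ∈ golayCode) :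
    theta (a + b) c = theta a c + theta b c + tri a b c := by
  have hs : ∀ p, sq (a + b) p = sq a p + sq b p + a p * b p + ∑ i, a (piv i) * b (piv i) * row i p := by
    intro p
    have h := e2_add (fun i => a (piv i) * row i p) fun i => b (piv i) * row i p
    rw [coord_sum ha, coord_sum hb] at h
    have e : (∑ i, a (piv i) * row i p * (b (piv i) * row i p)) = ∑ i, a (piv i) * b (piv i) * row i p :=
      Finset.sum_congr rfl fun i _ => by
        rw [show a (piv i) * row i p * (b (piv i) * row i p) = a (piv i) * b (piv i) * (row i p * row i p) by ring,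
          row_idem]
    rw [e] at h
    refine Eq.trans ?_ h
    simp only [sq]
    congr 1
    funext i
    simp [add_mul]
  have h0 : ∑ p, (∑ i, a (piv i) * b (piv i) * row i p) * c p = 0 := by
    simp only [Finset.sum_mul, mul_assoc]
    rw [Finset.sum_comm]
    simp only [← Finset.mul_sum, dot_eq_zero (row_mem _) hc, mul_zero, Finset.sum_const_zero]
  simp only [theta, bil, tri, hs, Pi.add_apply, add_mul, mul_add, Finset.sum_add_distrib, h0]
  ring

theorem hamming_eq (v : Word) : hammingNorm v = ∑ p, (v p).val := by
  rw [hammingNorm, Finset.card_filter]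
  refine Finset.sum_congr rfl fun p _ => ?_
  generalize v p = r
  revert r
  decide

theorem quart_third {a b c : Word} (ha : a ∈ golayCode) (hb : b ∈ golayCode) (hc : c ∈ golayCode) :
    quart (a + b + c) + quart a + quart b + quart c =
      quart (a + b) + quart (a + c) + quart (b + c) + tri a b c := by
  have key : hammingNorm (a + b + c) + hammingNorm a + hammingNorm b + hammingNorm c =
      hammingNorm (a + b) + hammingNorm (a + c) + hammingNorm (b + c) + 4 * ∑ p, (a p * b p * c p).val := by
    simp only [hamming_eq, Finset.mul_sum, ← Finset.sum_add_distrib]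
    refine Finset.sum_congr rfl fun p _ => ?_
    simp only [Pi.add_apply]
    generalize a p = x, b p = y, c p = z
    revert x y z
    decide
  have ht : tri a b c = ((∑ p, (a p * b p * c p).val : ℕ) : ZMod 2) := by
    rw [tri, Nat.cast_sum]
    exact Finset.sum_congr rfl fun p _ => (ZMod.natCast_zmod_val _).symm
  rw [ht]
  obtain ⟨k1, e1⟩ := four_dvd_weight (add_mem (add_mem ha hb) hc)
  obtain ⟨k2, e2⟩ := four_dvd_weight ha
  obtain ⟨k3, e3⟩ := four_dvd_weight hb
  obtain ⟨k4, e4⟩ := four_dvd_weight hc
  obtain ⟨k5, e5⟩ := four_dvd_weight (add_mem ha hb)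
  obtain ⟨k6, e6⟩ := four_dvd_weight (add_mem ha hc)
  obtain ⟨k7, e7⟩ := four_dvd_weight (add_mem hb hc)
  have hn : hammingNorm (a + b + c) / 4 + hammingNorm a / 4 + hammingNorm b / 4 + hammingNorm c / 4 =
      hammingNorm (a + b) / 4 + hammingNorm (a + c) / 4 + hammingNorm (b + c) / 4 +
        ∑ p, (a p * b p * c p).val := by omega
  simp only [quart, ← Nat.cast_add]
  exact congrArg (fun n : ℕ => (n : ZMod 2)) hn

theorem z2_self (x : ZMod 2) : x + x = 0 := by revert x; decide

theorem z2_add_eq {x y : ZMod 2} : x = y ↔ x + y = 0 := by revert x y; decide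

theorem word_self (a : Word) : a + a = 0 := funext fun p => z2_self (a p)

theorem tri_self {a b : Word} (ha : a ∈ golayCode) (hb : b ∈ golayCode) : tri a b a = 0 ∧ tri a b b = 0 := by
  constructor <;>
  · rw [← dot_eq_zero ha hb]
    refine Finset.sum_congr rfl fun p _ => ?_
    generalize a p = x, b p = y
    revert x y
    decide

/-- the defect of symmetry -/
def symDef (a b : Word) : ZMod 2 := theta a b + theta b a + quart (a + b) + quart a + quart b

theorem symDef_comm (a b : Word) : symDef a b = symDef b a := by
  rw [symDef, symDef, add_comm b a]; ring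

theorem symDef_add {a b c : Word} (ha : a ∈ golayCode) (hb : b ∈ golayCode) (hc : c ∈ golayCode) :
    symDef (a + b) c = symDef a c + symDef b c := by
  simp only [symDef]
  rw [theta_left ha hb hc, theta_right]
  have h := quart_third ha hb hc
  revert h
  generalize theta a c = x1, theta b c = x2, theta c a = x3, theta c b = x4, tri a b c = x5,
    quart (a + b + c) = x6, quart a = x7, quart b = x8, quart c = x9, quart (a + b) = y1,
    quart (a + c) = y2, quart (b + c) = y3
  intro h
  linear_combination h + (x5 + y1 - x7 - x8) * two0 - x9 * two0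

theorem zero_facts : theta 0 0 = 0 ∧ quart 0 = 0 ∧ (∀ b : Word, theta b 0 = 0) := by
  have h : ∀ b : Word, theta b 0 = 0 := fun b => by simp [theta, bil]
  exact ⟨h 0, by simp [quart], h⟩

theorem theta_zero_left {b : Word} (hb : b ∈ golayCode) : theta 0 b = 0 := by
  have h := theta_left (zero_mem _) (zero_mem _) hb
  rw [add_zero, z2_self, show tri (0 : Word) 0 b = 0 by simp [tri], add_zero] at h
  exact h

theorem symDef_rows : ∀ i j : Fin 12, symDef (row i) (row j) = 0 := by decide +kernel

theorem diag_rows : ∀ i : Fin 12, theta (row i) (row i) = quart (row i) := by decide +kernel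

theorem symDef_zero {b : Word} (hb : b ∈ golayCode) : symDef 0 b = 0 := by
  rw [symDef, theta_zero_left hb, zero_facts.2.2, zero_facts.2.1, zero_add (b : Word), zero_add]
  linear_combination (quart b) * two0

theorem symDef_eq {a b : Word} (ha : a ∈ golayCode) (hb : b ∈ golayCode) : symDef a b = 0 := by
  have h1 : ∀ i, symDef (row i) b = 0 := fun i => by
    refine (code_induction (P := fun v => v ∈ golayCode ∧ symDef (row i) v = 0)
      (fun j => ⟨row_mem j, symDef_rows i j⟩) ⟨zero_mem _, ?_⟩ (fun v w hv hw pv pw => ⟨add_mem hv hw, ?_⟩) hb).2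
    · rw [symDef_comm, symDef_zero (row_mem i)]
    · rw [symDef_comm, symDef_add hv hw (row_mem i), symDef_comm v, symDef_comm w, pv.2, pw.2, add_zero]
  exact code_induction (P := fun v => symDef v b = 0) h1 (symDef_zero hb)
    (fun v w hv hw pv pw => by rw [symDef_add hv hw hb, pv, pw, add_zero]) ha

theorem theta_diag {a : Word} (ha : a ∈ golayCode) : theta a a = quart a := by
  refine code_induction (P := fun v => theta v v = quart v) diag_rows
    (zero_facts.1.trans zero_facts.2.1.symm) (fun v w hv hw pv pw => ?_) ha
  have h := symDef_eq hv hw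
  rw [symDef] at h
  obtain ⟨t1, t2⟩ := tri_self hv hw
  rw [theta_right, theta_left hv hw hv, theta_left hv hw hw, t1, t2, pv, pw]
  linear_combination h + (-quart (v + w)) * two0

theorem theta_symm {a b : Word} (ha : a ∈ golayCode) (hb : b ∈ golayCode) :
    theta a b + theta b a = quart (a + b) + quart a + quart b := by
  have h := symDef_eq ha hb
  rw [symDef] at h
  rw [z2_add_eq, ← h]
  ring

/-- the change of the cocycle under a permutation -/
def defect (σ : GolayPt → GolayPt) (a b : Word) : ZMod 2 := theta (a ∘ σ) (b ∘ σ) + theta a b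

/-- the quadratic lift -/
def lift (σ : GolayPt → GolayPt) (a : Word) : ZMod 2 :=
  ∑ i : Fin 12, ∑ j : Fin 12, if i < j then defect σ (row i) (row j) * (a (piv i) * a (piv j)) else 0

theorem quart_comp (σ : Equiv.Perm GolayPt) (v : Word) : quart (v ∘ ⇑σ) = quart v := by
  have e : hammingNorm (v ∘ ⇑σ) = hammingNorm v := by
    rw [hamming_eq, hamming_eq]
    exact Equiv.sum_comp σ fun p => (v p).val
  rw [quart, quart, e]

theorem tri_comp (σ : Equiv.Perm GolayPt) (a b c : Word) : tri (a ∘ ⇑σ) (b ∘ ⇑σ) (c ∘ ⇑σ) = tri a b c :=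
  Equiv.sum_comp σ fun p => a p * b p * c p

theorem sum_pick (d : Fin 12 → Fin 12 → ZMod 2) (k l : Fin 12) :
    (∑ i : Fin 12, ∑ j : Fin 12, if i < j then d i j *
        ((if k = i then 1 else 0) * (if l = j then 1 else 0) + (if k = j then 1 else 0) * (if l = i then 1 else 0))
      else 0) = (if k < l then d k l else 0) + (if l < k then d l k else 0) := by
  have e : ∀ i j : Fin 12, (if i < j then d i j *
      ((if k = i then 1 else 0) * (if l = j then 1 else 0) + (if k = j then 1 else 0) * (if l = i then 1 else 0))
      else 0) = (if k = i then (1 : ZMod 2) else 0) * ((if l = j then (1 : ZMod 2) else 0) * (if i < j then d i j else 0)) +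
        (if l = i then (1 : ZMod 2) else 0) * ((if k = j then (1 : ZMod 2) else 0) * (if i < j then d i j else 0)) := by
    intro i j
    generalize (if k = i then (1 : ZMod 2) else 0) = A, (if l = j then (1 : ZMod 2) else 0) = B,
      (if k = j then (1 : ZMod 2) else 0) = C, (if l = i then (1 : ZMod 2) else 0) = D
    split_ifs <;> ring
  simp only [e]
  simp only [Finset.sum_add_distrib, ← Finset.mul_sum]
  simp only [ite_mul, one_mul, zero_mul, Finset.sum_ite_eq, Finset.mem_univ, if_true]

section
variable {σ : Equiv.Perm GolayPt} (hσ : σ ∈ M24)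
include hσ

theorem defect_left {a b c : Word} (ha : a ∈ golayCode) (hb : b ∈ golayCode) (hc : c ∈ golayCode) :
    defect σ (a + b) c = defect σ a c + defect σ b c := by
  simp only [defect]
  rw [show (a + b) ∘ ⇑σ = a ∘ ⇑σ + b ∘ ⇑σ from rfl,
    theta_left (comp_mem_of_M24 hσ ha) (comp_mem_of_M24 hσ hb) (comp_mem_of_M24 hσ hc),
    theta_left ha hb hc, tri_comp]
  linear_combination (tri a b c) * two0

theorem defect_symm {a b : Word} (ha : a ∈ golayCode) (hb : b ∈ golayCode) :
    defect σ a b = defect σ b a := by
  have h1 := theta_symm (comp_mem_of_M24 hσ ha) (comp_mem_of_M24 hσ hb)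
  have h2 := theta_symm ha hb
  rw [show a ∘ ⇑σ + b ∘ ⇑σ = (a + b) ∘ ⇑σ from rfl, quart_comp, quart_comp, quart_comp, ← h2] at h1
  simp only [defect]
  revert h1
  generalize theta (a ∘ ⇑σ) (b ∘ ⇑σ) = x, theta (b ∘ ⇑σ) (a ∘ ⇑σ) = y, theta a b = z, theta b a = w
  revert x y z w
  decide

theorem defect_self {a : Word} (ha : a ∈ golayCode) : defect σ a a = 0 := by
  rw [defect, theta_diag (comp_mem_of_M24 hσ ha), theta_diag ha, quart_comp, z2_self]

theorem defect_zero {b : Word} (hb : b ∈ golayCode) : defect σ 0 b = 0 := by
  rw [defect, show (0 : Word) ∘ ⇑σ = 0 from rfl, theta_zero_left (comp_mem_of_M24 hσ hb), theta_zero_left hb,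
    add_zero]

theorem lift_add {a b : Word} (ha : a ∈ golayCode) (hb : b ∈ golayCode) :
    lift σ (a + b) + lift σ a + lift σ b = defect σ a b := by
  have e : ∀ x y : Word, lift σ (x + y) + lift σ x + lift σ y = ∑ i : Fin 12, ∑ j : Fin 12,
      if i < j then defect σ (row i) (row j) * (x (piv i) * y (piv j) + x (piv j) * y (piv i)) else 0 := by
    intro x y
    simp only [lift, ← Finset.sum_add_distrib]
    refine Finset.sum_congr rfl fun i _ => Finset.sum_congr rfl fun j _ => ?_
    split_ifs
    · simp only [Pi.add_apply]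
      generalize defect σ (row i) (row j) = d, x (piv i) = p, x (piv j) = q, y (piv i) = r, y (piv j) = s
      revert d p q r s
      decide
    · simp
  rw [e]
  have add1 : ∀ x x' y : Word, (∑ i : Fin 12, ∑ j : Fin 12,
      if i < j then defect σ (row i) (row j) * ((x + x') (piv i) * y (piv j) + (x + x') (piv j) * y (piv i)) else 0) =
      (∑ i : Fin 12, ∑ j : Fin 12,
        if i < j then defect σ (row i) (row j) * (x (piv i) * y (piv j) + x (piv j) * y (piv i)) else 0) +
      ∑ i : Fin 12, ∑ j : Fin 12,
        if i < j then defect σ (row i) (row j) * (x' (piv i) * y (piv j) + x' (piv j) * y (piv i)) else 0 := by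
    intro x x' y
    simp only [← Finset.sum_add_distrib]
    refine Finset.sum_congr rfl fun i _ => Finset.sum_congr rfl fun j _ => ?_
    split_ifs
    · simp only [Pi.add_apply]; ring
    · simp
  have hrow : ∀ k l : Fin 12, (∑ i : Fin 12, ∑ j : Fin 12,
      if i < j then defect σ (row i) (row j) * (row k (piv i) * row l (piv j) + row k (piv j) * row l (piv i)) else 0) =
      defect σ (row k) (row l) := by
    intro k l
    simp only [row_piv]
    rw [sum_pick (fun i j => defect σ (row i) (row j)) k l]
    rcases lt_trichotomy k l with h | h | h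
    · rw [if_pos h, if_neg h.not_gt, add_zero]
    · subst h
      rw [if_neg (lt_irrefl k), defect_self hσ (row_mem k), add_zero]
    · rw [if_pos h, if_neg h.not_gt, zero_add, defect_symm hσ (row_mem k) (row_mem l)]
  have h1 : ∀ k, (∑ i : Fin 12, ∑ j : Fin 12,
      if i < j then defect σ (row i) (row j) * (row k (piv i) * b (piv j) + row k (piv j) * b (piv i)) else 0) =
      defect σ (row k) b := by
    intro k
    refine code_induction (P := fun v => (∑ i : Fin 12, ∑ j : Fin 12,
      if i < j then defect σ (row i) (row j) * (row k (piv i) * v (piv j) + row k (piv j) * v (piv i)) else 0) =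
      defect σ (row k) v) (hrow k) ?_ (fun v w hv hw pv pw => ?_) hb
    · rw [defect_symm hσ (row_mem k) (zero_mem _), defect_zero hσ (row_mem k)]
      simp
    · rw [defect_symm hσ (row_mem k) (add_mem hv hw), defect_left hσ hv hw (row_mem k),
        ← defect_symm hσ (row_mem k) hv, ← defect_symm hσ (row_mem k) hw, ← pv, ← pw]
      simp only [← Finset.sum_add_distrib]
      refine Finset.sum_congr rfl fun i _ => Finset.sum_congr rfl fun j _ => ?_
      split_ifs
      · simp only [Pi.add_apply]; ring
      · simp
  refine code_induction (P := fun v => (∑ i : Fin 12, ∑ j : Fin 12,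
      if i < j then defect σ (row i) (row j) * (v (piv i) * b (piv j) + v (piv j) * b (piv i)) else 0) =
      defect σ v b) h1 ?_ (fun v w hv hw pv pw => ?_) ha
  · rw [defect_zero hσ hb]; simp
  · rw [defect_left hσ hv hw hb, add1, pv, pw]

end

end Cfsg.Agent.Cocode
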