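import Cfsg.Agent.Cocode.Cocycle
import Cfsg.Prelude.Def_Spor_Mathieu

/-!
The extension of `M₂₃` by the cocode: automorphisms of the loop extension of the code.
-/

set_option autoImplicit false

namespace Cfsg.Agent.Cocode

open Cfsg Cfsg.Agent.Leech

/-- the code words -/
abbrev Code := ↥golayCode

theorem mem_M24_of_M23 {σ : Equiv.Perm GolayPt} (h : σ ∈ Spor.M23) : σ ∈ M24 := h.1

theorem M23_none (σ : Spor.M23) : (σ : Equiv.Perm GolayPt) none = none := σ.2.2

/-- the action on code words -/
def act (σ : Spor.M23) (a : Code) : Code :=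
  ⟨(a : Word) ∘ ⇑(σ : Equiv.Perm GolayPt), comp_mem_of_M24 (mem_M24_of_M23 σ.2) a.2⟩

theorem act_one (a : Code) : act 1 a = a := rfl

theorem act_mul (σ τ : Spor.M23) (a : Code) : act τ (act σ a) = act (σ * τ) a := rfl

theorem act_add (σ : Spor.M23) (a b : Code) : act σ (a + b) = act σ a + act σ b := rfl

/-- the elements of the extension -/
@[ext]
structure Ext where
  /-- the permutation -/
  perm : Spor.M23
  /-- the sign function -/
  sgn : Code → ZMod 2
  cond : ∀ a b : Code, sgn (a + b) + sgn a + sgn b =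
    theta (act perm a : Word) (act perm b : Word) + theta (a : Word) (b : Word)

theorem z2_cancel : ∀ a b c x y z p q r : ZMod 2, a + b + c = p + q → x + y + z = r + p →
    a + x + (b + y) + (c + z) = r + q := by decide

/-- multiplication -/
def Ext.mulE (g h : Ext) : Ext where
  perm := g.perm * h.perm
  sgn a := g.sgn a + h.sgn (act g.perm a)
  cond a b := by
    rw [← act_mul, ← act_mul, act_add]
    exact z2_cancel _ _ _ _ _ _ _ _ _ (g.cond a b) (h.cond (act g.perm a) (act g.perm b))

theorem z2_swap : ∀ a b c p q : ZMod 2, a + b + c = p + q → a + b + c = q + p := by decide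

instance : One Ext := ⟨⟨1, fun _ => 0, fun a b => by simp [act_one, z2_self]⟩⟩

instance : Mul Ext := ⟨Ext.mulE⟩

instance : Inv Ext := ⟨fun g =>
  { perm := g.perm⁻¹
    sgn := fun a => g.sgn (act g.perm⁻¹ a)
    cond := fun a b => by
      have h := g.cond (act g.perm⁻¹ a) (act g.perm⁻¹ b)
      rw [act_mul, act_mul, inv_mul_cancel, act_one, act_one, ← act_add] at h
      exact z2_swap _ _ _ _ _ h }⟩

theorem one_perm : (1 : Ext).perm = 1 := rfl
theorem one_sgn (a : Code) : (1 : Ext).sgn a = 0 := rfl
theorem mul_perm (g h : Ext) : (g * h).perm = g.perm * h.perm := rfl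
theorem mul_sgn (g h : Ext) (a : Code) : (g * h).sgn a = g.sgn a + h.sgn (act g.perm a) := rfl
theorem inv_perm (g : Ext) : g⁻¹.perm = g.perm⁻¹ := rfl
theorem inv_sgn (g : Ext) (a : Code) : g⁻¹.sgn a = g.sgn (act g.perm⁻¹ a) := rfl

instance : Group Ext where
  mul_assoc g h k := Ext.ext (mul_assoc _ _ _) (funext fun a => by
    simp only [mul_sgn, mul_perm, ← act_mul, add_assoc])
  one_mul g := Ext.ext (one_mul _) (funext fun a => by simp [mul_sgn, one_sgn, one_perm, act_one])
  mul_one g := Ext.ext (mul_one _) (funext fun a => by simp [mul_sgn, one_sgn])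
  inv_mul_cancel g := Ext.ext (inv_mul_cancel _) (funext fun a => by
    rw [mul_sgn, inv_sgn, inv_perm, z2_self, one_sgn])

instance : Finite Ext :=
  Finite.of_injective (fun g => (g.perm, g.sgn)) fun g h e =>
    Ext.ext (congrArg Prod.fst e) (congrArg Prod.snd e)

/-- projection -/
def projX : Ext →* Spor.M23 where
  toFun := Ext.perm
  map_one' := rfl
  map_mul' _ _ := rfl

/-- a lift of a permutation -/
def sect (σ : Spor.M23) : Ext where
  perm := σ
  sgn a := lift (σ : Equiv.Perm GolayPt) (a : Word)
  cond a b := lift_add (mem_M24_of_M23 σ.2) a.2 b.2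

theorem projX_surjective : Function.Surjective projX := fun σ => ⟨sect σ, rfl⟩

/-- pairing -/
def pair (w : Word) (a : Code) : ZMod 2 := ∑ p, w p * (a : Word) p

theorem pair_add (w : Word) (a b : Code) : pair w (a + b) = pair w a + pair w b := by
  simp [pair, mul_add, Finset.sum_add_distrib]

/-- the element given by a word -/
def ofWord (w : Word) : Ext where
  perm := 1
  sgn := pair w
  cond a b := by
    rw [act_one, act_one, z2_self, pair_add]
    linear_combination (pair w a + pair w b) * two0

theorem ofWord_add (v w : Word) : ofWord (v + w) = ofWord v * ofWord w :=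
  Ext.ext (one_mul _).symm (funext fun a => by
    rw [mul_sgn]
    show pair (v + w) a = pair v a + pair w (act 1 a)
    rw [act_one]
    simp [pair, add_mul, Finset.sum_add_distrib])

theorem ofWord_zero : ofWord 0 = 1 := Ext.ext rfl (funext fun a => by simp [ofWord, pair, one_sgn])

/-- a combination of rows -/
def comb (m : ℕ) : Word := fun p => ∑ i : Fin 12, (if m.testBit i.val then 1 else 0) * row i p

theorem comb_mem (m : ℕ) : comb m ∈ golayCode := by
  have : comb m = ∑ i : Fin 12, (if m.testBit i.val then (1 : ZMod 2) else 0) • row i := by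
    funext p
    simp only [comb, Finset.sum_apply, Pi.smul_apply, smul_eq_mul]
  rw [this]
  exact sum_mem fun i _ => Submodule.smul_mem _ _ (row_mem i)

/-- the point with a given index -/
def pt (i : Fin 24) : GolayPt := idxEquiv.symm i

theorem dual_table : ∀ (k : Fin 12) (i : Fin 24), 12 ≤ i.val →
    comb (dualMask k) (pt i) = if i.val = k.val + 12 then 1 else 0 := by decide +kernel

theorem piv_table : ∀ i : Fin 24, i.val < 12 → ∃ j : Fin 12, piv j = pt i := by decide +kernel

theorem mem_code_iff_pair (w : Word) : w ∈ golayCode ↔ ∀ a : Code, pair w a = 0 := by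
  refine ⟨fun hw a => dot_eq_zero hw a.2, fun h => ?_⟩
  have hd : dec w ∈ golayCode := by
    rw [dec_eq]; exact sum_mem fun i _ => Submodule.smul_mem _ _ (row_mem i)
  let v : Word := w + dec w
  have hv : ∀ a : Code, pair v a = 0 := fun a => by
    have := h a
    simp only [pair, v, Pi.add_apply, add_mul, Finset.sum_add_distrib] at this ⊢
    rw [this, dot_eq_zero hd a.2, add_zero]
  have hp : ∀ j, v (piv j) = 0 := fun j => by
    simp only [v, Pi.add_apply]
    have : dec w (piv j) = w (piv j) := by
      rw [dec_eq, Finset.sum_apply]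
      simp [row_piv]
    rw [this, z2_self]
  have hz : ∀ i : Fin 24, v (pt i) = 0 := by
    intro i
    by_cases hi : i.val < 12
    · obtain ⟨j, hj⟩ := piv_table i hi
      rw [← hj]; exact hp j
    · have hk := hv ⟨comb (dualMask ⟨i.val - 12, by omega⟩), comb_mem _⟩
      rw [pair, ← Equiv.sum_comp idxEquiv.symm, Finset.sum_eq_single i] at hk
      · change v (pt i) * comb _ (pt i) = 0 at hk
        rwa [dual_table _ i (by omega), if_pos (by simp only; omega), mul_one] at hk
      · intro l _ hl
        show v (pt l) * comb _ (pt l) = 0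
        by_cases hl2 : l.val < 12
        · obtain ⟨j, hj⟩ := piv_table l hl2
          rw [← hj, hp j, zero_mul]
        · rw [dual_table _ l (by omega), if_neg (by simp only; intro e; exact hl (Fin.ext (by omega))), mul_zero]
      · simp
  have hwv : v = 0 := funext fun p => by
    have := hz (idxEquiv p)
    rwa [pt, Equiv.symm_apply_apply] at this
  have : w = dec w := funext fun p => z2_add_eq.2 (congrFun hwv p)
  rw [this]; exact hd

/-- the central element -/
def zc : Ext := ofWord (Pi.single none 1)

theorem pair_single (a : Code) : pair (Pi.single none 1) a = (a : Word) none := by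
  rw [pair, Finset.sum_eq_single none]
  · simp
  · intro p _ hp; simp [hp]
  · simp

theorem zc_comm (g : Ext) : g * zc = zc * g :=
  Ext.ext (by rw [mul_perm, mul_perm]; exact (mul_one _).trans (one_mul _).symm) (funext fun a => by
    rw [mul_sgn, mul_sgn]
    show g.sgn a + pair (Pi.single none 1) (act g.perm a) = pair (Pi.single none 1) a + g.sgn (act 1 a)
    rw [pair_single, pair_single, act_one, add_comm]
    congr 1
    show (a : Word) ((g.perm : Equiv.Perm GolayPt) none) = _
    rw [M23_none])

theorem zc_sq : zc * zc = 1 := by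
  rw [zc, ← ofWord_add, word_self, ofWord_zero]

/-- the central subgroup -/
def Zs : Subgroup Ext where
  carrier := {g | g = 1 ∨ g = zc}
  one_mem' := Or.inl rfl
  mul_mem' := by
    rintro g h (rfl | rfl) (rfl | rfl)
    · exact Or.inl (one_mul _)
    · exact Or.inr (one_mul _)
    · exact Or.inr (mul_one _)
    · exact Or.inl zc_sq
  inv_mem' := by
    rintro g (rfl | rfl)
    · exact Or.inl inv_one
    · exact Or.inr (inv_eq_of_mul_eq_one_right zc_sq)

instance : Zs.Normal := ⟨by
  rintro n (rfl | rfl) g
  · exact Or.inl (by rw [mul_one, mul_inv_cancel])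
  · exact Or.inr (by rw [zc_comm, mul_inv_cancel_right])⟩

/-- the extension -/
abbrev EGrp := Ext ⧸ Zs

/-- projection -/
def proj : EGrp →* Spor.M23 := QuotientGroup.lift Zs projX (by
  rintro g (rfl | rfl)
  · exact map_one _
  · rfl)

theorem proj_mk (g : Ext) : proj (QuotientGroup.mk g) = g.perm := rfl

theorem proj_surjective : Function.Surjective proj := fun σ => ⟨QuotientGroup.mk (sect σ), rfl⟩

/-- the normal subgroup -/
def Nsub : Subgroup EGrp := proj.ker

instance : Nsub.Normal := MonoidHom.normal_ker _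

/-- the cocode map -/
def thetaN : Word →+ Additive ↥Nsub where
  toFun w := Additive.ofMul ⟨QuotientGroup.mk (ofWord w), MonoidHom.mem_ker.mpr rfl⟩
  map_zero' := congrArg Additive.ofMul (Subtype.ext (congrArg QuotientGroup.mk ofWord_zero))
  map_add' v w := congrArg Additive.ofMul (Subtype.ext (congrArg QuotientGroup.mk (ofWord_add v w)))

theorem thetaN_val (w : Word) : ((thetaN w).toMul : EGrp) = QuotientGroup.mk (ofWord w) := rfl

theorem ofWord_eq_one {w : Word} : ofWord w = 1 ↔ w ∈ golayCode := by
  rw [mem_code_iff_pair]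
  constructor
  · intro h a
    exact congrFun (congrArg Ext.sgn h) a
  · intro h
    exact Ext.ext rfl (funext h)

theorem thetaN_eq_zero (w : Word) :
    thetaN w = 0 ↔ (w ∈ golayCode ∨ w + Pi.single none 1 ∈ golayCode) := by
  have : thetaN w = 0 ↔ ofWord w ∈ Zs := by
    rw [← QuotientGroup.eq_one_iff]
    exact ⟨fun h => congrArg (fun x : Additive ↥Nsub => (x.toMul : EGrp)) h, fun h => Subtype.ext h⟩
  rw [this]
  have e : ofWord w = zc ↔ w + Pi.single none 1 ∈ golayCode := by
    rw [← ofWord_eq_one, ofWord_add]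
    constructor
    · intro h; rw [h]; exact zc_sq
    · intro h
      exact (eq_inv_of_mul_eq_one_left h).trans (inv_eq_of_mul_eq_one_right zc_sq)
  exact or_congr ofWord_eq_one e

theorem thetaN_surjective : Function.Surjective thetaN := by
  intro x
  obtain ⟨g, hg⟩ := QuotientGroup.mk_surjective (x.toMul : EGrp)
  have hp : g.perm = 1 := by
    have := x.toMul.2
    rw [← hg] at this
    exact this
  let w : Word := ∑ i, g.sgn ⟨row i, row_mem i⟩ • Pi.single (piv i) (1 : ZMod 2)
  refine ⟨w, congrArg Additive.ofMul (Subtype.ext ?_)⟩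
  show (QuotientGroup.mk (ofWord w) : EGrp) = (x.toMul : EGrp)
  rw [← hg]
  refine congrArg QuotientGroup.mk (Ext.ext hp.symm (funext fun a => ?_))
  have lin : ∀ a b : Code, g.sgn (a + b) = g.sgn a + g.sgn b := fun a b => by
    have h := g.cond a b
    rw [hp, act_one, act_one, z2_self] at h
    rw [z2_add_eq, ← add_assoc]
    exact h
  have lw : ∀ i, pair w ⟨row i, row_mem i⟩ = g.sgn ⟨row i, row_mem i⟩ := by
    intro i
    simp only [pair, w, Finset.sum_apply, Pi.smul_apply, smul_eq_mul, Finset.sum_mul]
    rw [Finset.sum_comm]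
    rw [Finset.sum_eq_single i, Finset.sum_eq_single (piv i)]
    · simp [row_piv]
    · intro p _ hp; simp [hp]
    · simp
    · intro j _ hj
      refine Finset.sum_eq_zero fun p _ => ?_
      by_cases hpj : p = piv j
      · subst hpj; simp [row_piv, hj.symm]
      · simp [hpj]
    · simp
  show pair w a = g.sgn a
  obtain ⟨a, ha⟩ := a
  refine (code_induction (P := fun v => ∃ hv : v ∈ golayCode, pair w ⟨v, hv⟩ = g.sgn ⟨v, hv⟩)
    (fun i => ⟨row_mem i, lw i⟩) ⟨zero_mem _, ?_⟩ (fun v u hv hu pv pu => ⟨add_mem hv hu, ?_⟩) ha).2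
  · have h0 := lin 0 0
    rw [add_zero, z2_self] at h0
    show pair w 0 = g.sgn 0
    rw [h0]; simp [pair]
  · show pair w (⟨v, hv⟩ + ⟨u, hu⟩) = g.sgn (⟨v, hv⟩ + ⟨u, hu⟩)
    obtain ⟨_, pv⟩ := pv
    obtain ⟨_, pu⟩ := pu
    rw [pair_add, lin, pv, pu]

theorem thetaN_conj (g : EGrp) (w : Word) :
    ((thetaN (w ∘ ⇑(((proj g : ↥Spor.M23) : Equiv.Perm GolayPt)⁻¹))).toMul : EGrp) =
      g * ((thetaN w).toMul : EGrp) * g⁻¹ := by
  obtain ⟨g, rfl⟩ := QuotientGroup.mk_surjective g
  rw [thetaN_val, thetaN_val, proj_mk, eq_mul_inv_iff_mul_eq, ← QuotientGroup.mk_mul, ← QuotientGroup.mk_mul]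
  refine congrArg QuotientGroup.mk (Ext.ext ?_ (funext fun a => ?_))
  · show 1 * g.perm = g.perm * 1
    rw [one_mul, mul_one]
  · show pair _ a + g.sgn (act 1 a) = g.sgn a + pair w (act g.perm a)
    rw [act_one, add_comm]
    refine congrArg (g.sgn a + ·) ?_
    simp only [pair, act]
    rw [← Equiv.sum_comp ((g.perm : Equiv.Perm GolayPt))]
    refine Finset.sum_congr rfl fun p _ => ?_
    simp only [Function.comp_apply, Equiv.Perm.inv_def, Equiv.symm_apply_apply]

/-- the quotient map -/
noncomputable def quotEquiv : EGrp ⧸ Nsub ≃* ↥Spor.M23 :=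
  MulEquiv.ofBijective (QuotientGroup.lift Nsub proj (fun _ h => h))
    ⟨(injective_iff_map_eq_one _).2 fun x hx => by
      obtain ⟨g, rfl⟩ := QuotientGroup.mk_surjective x
      exact (QuotientGroup.eq_one_iff g).2 (MonoidHom.mem_ker.2 hx),
    fun σ => by
      obtain ⟨g, hg⟩ := proj_surjective σ
      exact ⟨QuotientGroup.mk g, hg⟩⟩

theorem quotEquiv_mk (g : EGrp) : quotEquiv (QuotientGroup.mk g) = proj g :=
  QuotientGroup.lift_mk Nsub (φ := proj) (fun _ h => h) g

end Cfsg.Agent.Cocode
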