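import Cfsg.Agent.Cocode.Ext

/-!
The extension of `M₂₃` by the cocode does not split: two relators have no solution among the lifts.
-/

set_option autoImplicit false

namespace Cfsg.Agent.Cocode

open Cfsg Cfsg.Agent.Leech

theorem gen_inv : ∀ (k : Fin 3) (i : Fin 24), genInvTab k (genTab k i) = i ∧ genTab k (genInvTab k i) = i := by
  decide +kernel

/-- the permutation of the points -/
def genPerm (k : Fin 3) : Equiv.Perm GolayPt where
  toFun p := pt (genTab k (idxEquiv p))
  invFun p := pt (genInvTab k (idxEquiv p))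
  left_inv p := by simp [pt, (gen_inv k _).1]
  right_inv p := by simp [pt, (gen_inv k _).2]

theorem genPerm_rows : ∀ (k : Fin 3) (i : Fin 12),
    dec (row i ∘ ⇑(genPerm k)) = row i ∘ ⇑(genPerm k) := by decide +kernel

theorem genPerm_none : ∀ k : Fin 3, genPerm k none = none := by decide +kernel

/-- the generators -/
def gen (k : Fin 3) : Spor.M23 :=
  ⟨genPerm k, mem_M24_of_rows (genPerm_rows k), genPerm_none k⟩

theorem rels_hold : ∀ w ∈ relWords, ∀ p : GolayPt, (w.map genPerm).prod p = p := by decide +kernel

theorem rels_hold' {w : List (Fin 3)} (hw : w ∈ relWords) : (w.map gen).prod = 1 := by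
  apply Subtype.ext
  have : (((w.map gen).prod : Spor.M23) : Equiv.Perm GolayPt) = (w.map genPerm).prod := by
    rw [← Subgroup.coe_subtype, map_list_prod, List.map_map]
    rfl
  rw [this]
  exact Equiv.ext (rels_hold w hw)

/-- the points met when a word is evaluated -/
def chain : List (Fin 3) → Word → List (Fin 3 × Word)
  | [], _ => []
  | k :: w, v => (k, v) :: chain w (v ∘ ⇑(genPerm k))

/-- all the evaluation points -/
def allPts : List (Fin 3 × Word) :=
  ((relWords.zip picks).map fun q => (q.2.map fun i => chain q.1 (row i)).flatten).flatten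

/-- the lift computed from the table -/
def fastLift (k : Fin 3) (v : Word) : ZMod 2 :=
  ∑ i : Fin 12, ∑ j : Fin 12, if i < j ∧ (defTab k i).testBit j.val then v (piv i) * v (piv j) else 0

theorem defect_tab : ∀ (k : Fin 3) (i j : Fin 12), i < j →
    defect (genPerm k) (row i) (row j) = if (defTab k i).testBit j.val then 1 else 0 := by decide +kernel

theorem lift_fast (k : Fin 3) (v : Word) : lift (genPerm k) v = fastLift k v := by
  refine Finset.sum_congr rfl fun i _ => Finset.sum_congr rfl fun j _ => ?_
  by_cases h : i < j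
  · rw [if_pos h, defect_tab k i j h]
    by_cases hb : (defTab k i).testBit j.val <;> simp [h, hb]
  · simp [h]

theorem pts_fast : (allPts.map fun q => fastLift q.1 q.2).sum = 1 := by decide +kernel

theorem pts_lift : (allPts.map fun q => lift (genPerm q.1) q.2).sum = 1 := by
  simp only [lift_fast]
  exact pts_fast

theorem pts_coord : ∀ (k : Fin 3) (i : Fin 12),
    (allPts.map fun q => if q.1 = k then q.2 (piv i) else 0).sum = 0 := by decide +kernel

theorem pts_parity : ∀ q ∈ relWords.zip picks, (q.2.map fun i => row i none).sum = 0 := by decide +kernel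

theorem sum_flatten_map {α β : Type*} (l : List β) (c : β → List α) (f : α → ZMod 2) :
    (((l.map c).flatten).map f).sum = (l.map fun b => ((c b).map f).sum).sum := by
  induction l with
  | nil => simp
  | cons a l ih => simp only [List.map_cons, List.flatten_cons, List.map_append, List.sum_append, List.sum_cons, ih]

theorem chain_mem : ∀ (w : List (Fin 3)) (v : Word), v ∈ golayCode →
    ∀ q ∈ chain w v, q.2 ∈ golayCode
  | [], _, _, q, hq => by simp [chain] at hq
  | k :: w, v, hv, q, hq => by
    rcases List.mem_cons.1 hq with rfl | hq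
    · exact hv
    · exact chain_mem w _ (comp_mem_of_M24 (gen k).2.1 hv) q hq

theorem allPts_mem : ∀ q ∈ allPts, q.2 ∈ golayCode := by
  intro q hq
  simp only [allPts, List.mem_flatten, List.mem_map] at hq
  obtain ⟨l, ⟨a, _, rfl⟩, hq⟩ := hq
  simp only [List.mem_flatten, List.mem_map] at hq
  obtain ⟨c, ⟨i, _, rfl⟩, hq⟩ := hq
  exact chain_mem _ _ (row_mem i) q hq

open Classical in
/-- a sign function on all words -/
noncomputable def ev (g : Ext) (v : Word) : ZMod 2 := if h : v ∈ golayCode then g.sgn ⟨v, h⟩ else 0

theorem ev_apply (g : Ext) (a : Code) : ev g (a : Word) = g.sgn a := by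
  rw [ev, dif_pos a.2]

theorem prod_sgn (g : Fin 3 → Ext) (hg : ∀ k, (g k).perm = gen k) : ∀ (w : List (Fin 3)) (a : Code),
    (w.map g).prod.sgn a = ((chain w (a : Word)).map fun q => ev (g q.1) q.2).sum
  | [], a => rfl
  | k :: w, a => by
    rw [List.map_cons, List.prod_cons, mul_sgn, prod_sgn g hg w, chain, List.map_cons, List.sum_cons, ev_apply]
    rw [hg]
    rfl

theorem no_lifts (g : Fin 3 → Ext) (hg : ∀ k, (g k).perm = gen k)
    (hrel : ∀ w ∈ relWords, (w.map g).prod ∈ Zs) : False := by
  let ψ : Fin 3 → Word → ZMod 2 := fun k v => ev (g k) v + lift (genPerm k) v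
  have hadd : ∀ k v w, v ∈ golayCode → w ∈ golayCode → ψ k (v + w) = ψ k v + ψ k w := by
    intro k v w hv hw
    have h1 := (g k).cond ⟨v, hv⟩ ⟨w, hw⟩
    rw [hg] at h1
    have h2 : lift (genPerm k) (v + w) + lift (genPerm k) v + lift (genPerm k) w =
      theta (act (gen k) ⟨v, hv⟩ : Word) (act (gen k) ⟨w, hw⟩ : Word) + theta v w :=
      lift_add (gen k).2.1 hv hw
    rw [← h2, ← ev_apply, ← ev_apply, ← ev_apply] at h1
    change ev (g k) (v + w) + ev (g k) v + ev (g k) w = _ at h1
    simp only [ψ]
    revert h1
    generalize ev (g k) (v + w) = a, ev (g k) v = b, ev (g k) w = c, lift (genPerm k) (v + w) = x,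
      lift (genPerm k) v = y, lift (genPerm k) w = z
    revert a b c x y z
    decide
  have hlin : ∀ k v, v ∈ golayCode → ψ k v = ∑ i, v (piv i) * ψ k (row i) := by
    intro k v hv
    refine code_induction (P := fun v => ψ k v = ∑ i, v (piv i) * ψ k (row i))
      (fun j => by simp [row_piv]) ?_ (fun a b ha hb pa pb => ?_) hv
    · have := hadd k 0 0 (zero_mem _) (zero_mem _)
      rw [add_zero, z2_self] at this
      rw [this]; simp
    · rw [hadd k a b ha hb, pa, pb, ← Finset.sum_add_distrib]
      simp [add_mul]
  have hz : (allPts.map fun q => ψ q.1 q.2).sum = 0 := by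
    have step : ∀ l : List (Fin 3 × Word), (∀ q ∈ l, q.2 ∈ golayCode) →
        (l.map fun q => ψ q.1 q.2).sum =
          ∑ k, ∑ i, (l.map fun q => if q.1 = k then q.2 (piv i) else 0).sum * ψ k (row i) := by
      intro l
      induction l with
      | nil => simp
      | cons a l ih =>
        intro hl
        simp only [List.map_cons, List.sum_cons, add_mul, Finset.sum_add_distrib]
        rw [ih fun q hq => hl q (List.mem_cons_of_mem _ hq)]
        refine congrArg₂ (· + ·) ?_ rfl
        rw [hlin _ _ (hl a List.mem_cons_self), Finset.sum_eq_single a.1]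
        · simp
        · intro k _ hk; simp [hk.symm]
        · simp
    rw [step allPts allPts_mem]
    simp [pts_coord]
  have hev : (allPts.map fun q => ev (g q.1) q.2).sum = 0 := by
    rw [allPts, sum_flatten_map]
    refine List.sum_eq_zero fun x hx => ?_
    simp only [List.mem_map] at hx
    obtain ⟨⟨w, ps⟩, hq, rfl⟩ := hx
    rw [sum_flatten_map]
    have hw : w ∈ relWords := (List.of_mem_zip hq).1
    have e : ∀ i, ((chain w (row i)).map fun q => ev (g q.1) q.2).sum = (w.map g).prod.sgn ⟨row i, row_mem i⟩ :=
      fun i => (prod_sgn g hg w ⟨row i, row_mem i⟩).symm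
    simp only [e]
    rcases hrel w hw with h | h
    · simp [h, one_sgn]
    · rw [h]
      have : ∀ i, zc.sgn ⟨row i, row_mem i⟩ = row i none := fun i => pair_single _
      simp only [this]
      exact pts_parity _ hq
  have hsplit : ∀ l : List (Fin 3 × Word), (l.map fun q => ψ q.1 q.2).sum =
      (l.map fun q => ev (g q.1) q.2).sum + (l.map fun q => lift (genPerm q.1) q.2).sum := fun l => by
    induction l with
    | nil => simp
    | cons a l ih => simp only [List.map_cons, List.sum_cons, ih, ψ]; ring
  rw [hsplit, hev, pts_lift] at hz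
  simp at hz

theorem no_complement (H : Subgroup EGrp) (h1 : H ⊓ Nsub = ⊥) : H ⊔ Nsub ≠ ⊤ := by
  intro h2
  have hs : ∀ k, ∃ g : Ext, (QuotientGroup.mk g : EGrp) ∈ H ∧ g.perm = gen k := by
    intro k
    obtain ⟨x, hx⟩ := proj_surjective (gen k)
    have hmem : x ∈ H ⊔ Nsub := by rw [h2]; trivial
    obtain ⟨h, hh, n, hn, rfl⟩ := Subgroup.mem_sup_of_normal_right.1 hmem
    obtain ⟨g, rfl⟩ := QuotientGroup.mk_surjective h
    refine ⟨g, hh, ?_⟩
    rw [map_mul, MonoidHom.mem_ker.1 hn, mul_one] at hx
    exact hx
  choose g hgH hg using hs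
  refine no_lifts g hg fun w hw => ?_
  rw [← QuotientGroup.eq_one_iff, ← Subgroup.mem_bot, ← h1]
  refine ⟨?_, ?_⟩
  · show (QuotientGroup.mk' Zs) (w.map g).prod ∈ H
    rw [map_list_prod]
    exact Subgroup.list_prod_mem H fun x hx => by
      simp only [List.map_map, List.mem_map] at hx
      obtain ⟨k, _, rfl⟩ := hx
      exact hgH k
  · show projX (w.map g).prod = 1
    rw [map_list_prod, List.map_map, show (⇑projX ∘ g) = gen from funext hg]
    exact rels_hold' hw

end Cfsg.Agent.Cocode
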